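/-
Kernel checks for two monomial covers of PSU(4, 3).
-/
import Cfsg.Agent.Lib.U43Mult.CoverData
import Cfsg.Agent.Lib.U43Mult.GroupData

set_option autoImplicit false
set_option maxRecDepth 30000
set_option maxHeartbeats 2000000

namespace CfsgLib.U43Mult

theorem permsA : coverA.permsOK = true ∧ coverA.objOK 280 = true ∧ coverA.treeOK = true ∧
    coverA.wordOK 280 (gens.map Prod.fst) = true := by decide +kernel

theorem permsB : coverB.permsOK = true ∧ coverB.objOK 280 = true ∧ coverB.treeOK = true ∧
    coverB.wordOK 280 (gens.map Prod.fst) = true := by decide +kernel

theorem moveA : coverA.moveOK 280 (gens.map Prod.fst) = true := by decide +kernel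

theorem moveB : coverB.moveOK 280 (gens.map Prod.fst) = true := by decide +kernel

theorem injA : coverA.sortOK coverASorted coverAPlaces = true := by decide +kernel

theorem injB : coverB.sortOK coverBSorted coverBPlaces = true := by decide +kernel

theorem rowA : coverA.rowOK 0 126 = true := by decide +kernel

theorem rowB : coverB.rowOK 0 126 = true := by decide +kernel

theorem keepA0 : coverA.keepOK 0 0 126 = true := by decide +kernel

theorem keepA1 : coverA.keepOK 1 0 126 = true := by decide +kernel

theorem keepB0 : coverB.keepOK 0 0 126 = true := by decide +kernel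

theorem keepB1 : coverB.keepOK 1 0 126 = true := by decide +kernel

theorem separate : (coverB.run coverA.word (0, 0)).2 = 0 ∧ (coverA.run coverB.word (0, 0)).2 = 0 := by decide +kernel

end CfsgLib.U43Mult
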