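/-
Kernel checks for PSU(4, 3) on the 280 isotropic points.
-/
import Cfsg.Agent.Lib.U43Mult.GroupData

set_option autoImplicit false
set_option maxRecDepth 30000
set_option maxHeartbeats 2000000

namespace CfsgLib.U43Mult

open CfsgPC
open CfsgLib.SpectrumU33 (mulC)

theorem gens_ok : (gens.all fun c => isPerm 280 c.1 c.2) = true ∧ gens.length = 2 := by decide +kernel

theorem chain_shape : shapeOK 280 chain (gens.map Prod.fst) = true ∧
    (chain.map fun L => L.tr.length) = [280, 243, 2, 24] ∧ sizeOfChain chain = 3265920 := by decide +kernel

theorem chain_entries0a : entriesOK 280 chain (gens.map Prod.fst) 0 0 140 = true := by decide +kernel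

theorem chain_entries0b : entriesOK 280 chain (gens.map Prod.fst) 0 140 280 = true := by decide +kernel

theorem chain_entries1a : entriesOK 280 chain (gens.map Prod.fst) 1 0 120 = true := by decide +kernel

theorem chain_entries1b : entriesOK 280 chain (gens.map Prod.fst) 1 120 243 = true := by decide +kernel

theorem chain_entries2 : entriesOK 280 chain (gens.map Prod.fst) 2 0 2 = true := by decide +kernel

theorem chain_entries3 : entriesOK 280 chain (gens.map Prod.fst) 3 0 24 = true := by decide +kernel

/-- The multiple of a vector. -/
def smulV (c : ℕ) : U43N.V → U43N.V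
  | (a, b, d, e) => (mulC c a, mulC c b, mulC c d, mulC c e)

/-- A vector as a number. -/
def key : U43N.V → ℕ
  | (a, b, d, e) => a + 9 * b + 81 * d + 729 * e

/-- The first non-zero coordinate is one. -/
def normal : U43N.V → Bool
  | (a, b, d, e) => if Nat.beq a 0 then (if Nat.beq b 0 then (if Nat.beq d 0 then Nat.beq e 1 else Nat.beq d 1) else Nat.beq b 1)
      else Nat.beq a 1

/-- All coordinates are codes. -/
def small : U43N.V → Bool
  | (a, b, d, e) => Nat.blt a 9 && Nat.blt b 9 && Nat.blt d 9 && Nat.blt e 9

theorem pts_ok : (pts.all fun v => small v && normal v) = true ∧ pts.length = 280 := by decide +kernel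

theorem pts_distinct : ((List.range 280).all fun i => (List.range i).all fun k =>
    !Nat.beq ((pts.map key).getD i 0) ((pts.map key).getD k 0)) = true := by decide +kernel

theorem mats_ok : ((List.range 2).all fun j => U43N.unit (genMats.getD j U43N.oneM) && U43N.bound (genMats.getD j U43N.oneM) &&
    (U43N.powM (genMats.getD j U43N.oneM) (genOrders.getD j 0) == U43N.oneM) && (Nat.gcd (genOrders.getD j 0) 8 == 1)) = true := by
  decide +kernel

theorem imgs_ok : ((List.range 2).all fun j => (List.range 280).all fun i =>
    let c := (facs.getD j []).getD i 0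
    Nat.blt 0 c && Nat.blt c 9 &&
      (U43N.mulV (genMats.getD j U43N.oneM) (pts.getD i (0, 0, 0, 0)) ==
        smulV c (pts.getD (ap (gens.getD j (0, 0)).1 i) (0, 0, 0, 0)))) = true := by decide +kernel

end CfsgLib.U43Mult
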