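/-
PSU(4, 3) as a group of permutations of its 280 isotropic points, and its two covers with kernel of order three.
-/
import Cfsg.Agent.Lib.U43Mult.GroupChecks
import Cfsg.Agent.Lib.U43Mult.CoverChecks
import Cfsg.Agent.Lib.StemSylow.LabelPair
import Cfsg.Agent.Lib.U43N.Main
import Cfsg.Agent.Lib.SUCover.Multiplier
import Cfsg.Agent.Lib.PermChain.Model
import Cfsg.Agent.S0280

set_option autoImplicit false
set_option maxRecDepth 30000
set_option linter.unusedSectionVars false
set_option linter.style.haveILetI false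

namespace CfsgLib.U43Mult

open Equiv Subgroup CfsgPC
open scoped Matrix
open Cfsg (SU PSU)
open CfsgLib.SpectrumU33 (dec dec_one dec_zero dec_mul dec_inj mulC)

universe u

attribute [local irreducible] chain gens pts facs genMats coverA coverB

/-- PSU(4, 3) on 280 points. -/
abbrev SmallU := ↥(genG 280 (gens.map Prod.fst))

theorem small_valid : Valid 280 (gens.map Prod.fst) := fun c hc => by
  obtain ⟨d, hd, rfl⟩ := List.mem_map.mp hc
  exact ⟨_, decP_rep (List.all_eq_true.mp gens_ok.1 d hd)⟩

theorem small_table : TableOK 280 chain (gens.map Prod.fst) := by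
  obtain ⟨hs, hlens, -⟩ := chain_shape
  refine tableOK_of_checks hs fun j hj k hk => ?_
  have hk' : k < [280, 243, 2, 24].getD j 0 := by
    rw [← hlens, List.getD_eq_getElem _ _ (by simpa using hj), List.getElem_map]
    rwa [List.getD_eq_getElem _ _ hj] at hk
  have hl : chain.length = 4 := by simpa using congrArg List.length hlens
  rw [hl] at hj
  clear hk
  interval_cases j
  · replace hk' : k < 280 := hk'
    by_cases h1 : k < 140
    · exact of_entriesOK chain_entries0a (Nat.zero_le _) h1
    exact of_entriesOK chain_entries0b (by omega) hk'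
  · replace hk' : k < 243 := hk'
    by_cases h1 : k < 120
    · exact of_entriesOK chain_entries1a (Nat.zero_le _) h1
    exact of_entriesOK chain_entries1b (by omega) hk'
  · exact of_entriesOK chain_entries2 (Nat.zero_le _) hk'
  · exact of_entriesOK chain_entries3 (Nat.zero_le _) hk'

section Field

variable {F : Type u} [Field F] [Fintype F] (hF : Fintype.card F = 9)

include hF

theorem psu_card : Nat.card (PSU 4 F 3) = 3265920 := by
  have h := Cfsg.Agent.S0280.result (F := F) (q := 3) (by rw [hF]; norm_num) 4 (by norm_num)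
  simp [Finset.prod_range_succ, show Even 2 from ⟨1, rfl⟩, show ¬ Even 3 from by decide] at h
  omega

theorem center_card : Nat.card (Subgroup.center (SU 4 F 3)) = 4 := by
  rw [(SUCover.center_cyclic (q := 3) (by rw [hF]; norm_num) (n := 4) (by norm_num)).2]
  rfl

variable [CharP F 3] {r : F} (hr : r * r = -1)

include hr

theorem smul_vec (c : ℕ) (v : U43N.V) : U43N.vec r (smulV c v) = dec r c • U43N.vec r v := by
  obtain ⟨a, b, d, e⟩ := v
  funext i
  fin_cases i <;> simp [smulV, U43N.vec, dec_mul hr]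

theorem vec_inj {v w : U43N.V} (hv : small v = true) (hw : small w = true)
    (h : U43N.vec r v = U43N.vec r w) : v = w := by
  obtain ⟨a, b, c, d⟩ := v
  obtain ⟨a', b', c', d'⟩ := w
  simp only [small, Bool.and_eq_true, Nat.blt_eq] at hv hw
  have h0 : dec r a = dec r a' := congrFun h 0
  have h1 : dec r b = dec r b' := congrFun h 1
  have h2 : dec r c = dec r c' := congrFun h 2
  have h3 : dec r d = dec r d' := congrFun h 3
  rw [dec_inj hr hv.1.1.1 hw.1.1.1 h0, dec_inj hr hv.1.1.2 hw.1.1.2 h1, dec_inj hr hv.1.2 hw.1.2 h2,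
    dec_inj hr hv.2 hw.2 h3]

/-- Normal vectors on a common line are equal. -/
theorem normal_unique {v w : U43N.V} (hv : normal v = true ∧ small v = true) (hw : normal w = true ∧ small w = true)
    {c : F} (hc : c ≠ 0) (h : U43N.vec r v = c • U43N.vec r w) : v = w := by
  obtain ⟨a, b, d, e⟩ := v
  obtain ⟨a', b', d', e'⟩ := w
  have h0 : dec r a = c * dec r a' := congrFun h 0
  have h1 : dec r b = c * dec r b' := congrFun h 1
  have h2 : dec r d = c * dec r d' := congrFun h 2
  have h3 : dec r e = c * dec r e' := congrFun h 3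
  obtain ⟨hvn, hvs⟩ := hv
  obtain ⟨hwn, hws⟩ := hw
  have hc1 : c = 1 := by
    simp only [small, Bool.and_eq_true, Nat.blt_eq] at hvs hws
    have hz : ∀ x y : ℕ, x < 9 → y < 9 → dec r x = c * dec r y → (x = 0 ↔ y = 0) := by
      intro x y hx hy e
      constructor <;> intro h
      · rw [h, dec_zero, eq_comm, mul_eq_zero] at e
        exact dec_inj hr hy (by norm_num) ((e.resolve_left hc).trans dec_zero.symm)
      · rw [h, dec_zero, mul_zero] at e
        exact dec_inj hr hx (by norm_num) (e.trans dec_zero.symm)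
    have hone : ∀ x y : ℕ, x = 1 → y = 1 → dec r x = c * dec r y → c = 1 := by
      rintro x y rfl rfl e
      rw [dec_one, mul_one] at e
      exact e.symm
    have z0 := hz a a' hvs.1.1.1 hws.1.1.1 h0
    have z1 := hz b b' hvs.1.1.2 hws.1.1.2 h1
    have z2 := hz d d' hvs.1.2 hws.1.2 h2
    simp only [normal] at hvn hwn
    by_cases ea : a = 0
    · rw [if_pos (by rw [ea]; rfl)] at hvn
      rw [if_pos (by rw [z0.mp ea]; rfl)] at hwn
      by_cases eb : b = 0
      · rw [if_pos (by rw [eb]; rfl)] at hvn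
        rw [if_pos (by rw [z1.mp eb]; rfl)] at hwn
        by_cases ed : d = 0
        · rw [if_pos (by rw [ed]; rfl)] at hvn
          rw [if_pos (by rw [z2.mp ed]; rfl)] at hwn
          exact hone e e' (Nat.eq_of_beq_eq_true hvn) (Nat.eq_of_beq_eq_true hwn) h3
        · rw [if_neg (fun h => ed (Nat.eq_of_beq_eq_true h))] at hvn
          rw [if_neg (fun h => ed (z2.mpr (Nat.eq_of_beq_eq_true h)))] at hwn
          exact hone d d' (Nat.eq_of_beq_eq_true hvn) (Nat.eq_of_beq_eq_true hwn) h2
      · rw [if_neg (fun h => eb (Nat.eq_of_beq_eq_true h))] at hvn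
        rw [if_neg (fun h => eb (z1.mpr (Nat.eq_of_beq_eq_true h)))] at hwn
        exact hone b b' (Nat.eq_of_beq_eq_true hvn) (Nat.eq_of_beq_eq_true hwn) h1
    · rw [if_neg (fun h => ea (Nat.eq_of_beq_eq_true h))] at hvn
      rw [if_neg (fun h => ea (z0.mpr (Nat.eq_of_beq_eq_true h)))] at hwn
      exact hone a a' (Nat.eq_of_beq_eq_true hvn) (Nat.eq_of_beq_eq_true hwn) h0
  rw [hc1, one_smul] at h
  exact vec_inj hF hr hvs hws h

/-- The quotient by the centre is the group on 280 points. -/
theorem small_equiv : Nonempty (PSU 4 F 3 ≃* SmallU) := by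
  classical
  haveI : Fact (Nat.Prime 3) := ⟨Nat.prime_three⟩
  have hF2 : Fintype.card F = 3 ^ 2 := by rw [hF]; norm_num
  let v : Fin 280 → (Fin 4 → F) := fun i => U43N.vec r (pts.getD i (0, 0, 0, 0))
  let line : Fin 280 → Set (Fin 4 → F) := fun i => {w | ∃ c : F, c ≠ 0 ∧ w = c • v i}
  have hpts : ∀ i : Fin 280, normal (pts.getD i (0, 0, 0, 0)) = true ∧ small (pts.getD i (0, 0, 0, 0)) = true := fun i => by
    have hi : (i : ℕ) < pts.length := (by rw [pts_ok.2]; exact i.2)
    have h := List.all_eq_true.mp pts_ok.1 _ (List.getElem_mem hi)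
    rw [Bool.and_eq_true] at h
    rw [List.getD_eq_getElem _ _ hi]
    exact ⟨h.2, h.1⟩
  have hline : Function.Injective line := by
    intro i k h
    obtain ⟨c, hc, hv⟩ : v i ∈ line k := h ▸ ⟨1, one_ne_zero, (one_smul F _).symm⟩
    have he := normal_unique hF hr (hpts i) (hpts k) hc hv
    by_contra hne
    have hd : ∀ a b : Fin 280, (b : ℕ) < a → pts.getD a (0, 0, 0, 0) ≠ pts.getD b (0, 0, 0, 0) := fun a b hba e => by
      have := List.all_eq_true.mp (List.all_eq_true.mp pts_distinct a (List.mem_range.mpr a.2)) b (List.mem_range.mpr hba)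
      have ha : (a : ℕ) < pts.length := (by rw [pts_ok.2]; exact a.2)
      have hb : (b : ℕ) < pts.length := (by rw [pts_ok.2]; exact b.2)
      rw [List.getD_eq_getElem _ _ (by simpa using ha), List.getD_eq_getElem _ _ (by simpa using hb),
        List.getElem_map, List.getElem_map] at this
      rw [List.getD_eq_getElem _ _ ha, List.getD_eq_getElem _ _ hb] at e
      rw [e, Nat.beq_refl] at this
      exact Bool.noConfusion this
    rcases Nat.lt_trichotomy i k with hlt | heq | hgt
    · exact hd k i hlt he.symm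
    · exact hne (Fin.ext heq)
    · exact hd i k hgt he
  letI : MulAction (SU 4 F 3) (Set (Fin 4 → F)) :=
    { smul := fun g s => (fun w => g.1.1 *ᵥ w) '' s
      one_smul := fun s => by
        show (fun w => (1 : Matrix (Fin 4) (Fin 4) F) *ᵥ w) '' s = s
        simp
      mul_smul := fun g h s => by
        show (fun w => (g.1.1 * h.1.1) *ᵥ w) '' s = (fun w => g.1.1 *ᵥ w) '' ((fun w => h.1.1 *ᵥ w) '' s)
        rw [Set.image_image]
        simp [Matrix.mulVec_mulVec] }
  have hmv : ∀ (A : Matrix (Fin 4) (Fin 4) F) (i : Fin 280) (k : Fin 280) (d : F), d ≠ 0 →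
      A *ᵥ v i = d • v k → (fun w => A *ᵥ w) '' line i = line k := by
    intro A i k d hd hA
    ext w
    constructor
    · rintro ⟨_, ⟨c, hc, rfl⟩, rfl⟩
      refine ⟨c * d, mul_ne_zero hc hd, ?_⟩
      show A *ᵥ (c • v i) = _
      rw [Matrix.mulVec_smul, hA, smul_smul]
    · rintro ⟨c, hc, rfl⟩
      refine ⟨(c / d) • v i, ⟨c / d, div_ne_zero hc hd, rfl⟩, ?_⟩
      show A *ᵥ ((c / d) • v i) = _
      rw [Matrix.mulVec_smul, hA, smul_smul, div_mul_cancel₀ c hd]
  have hg : ∀ c ∈ gens.map Prod.fst, ∃ g : SU 4 F 3, ∃ p : Perm (Fin 280), Rep 280 c p ∧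
      ∀ i, g • line i = line (p i) := by
    intro c hc
    obtain ⟨j, hj, rfl⟩ := List.getElem_of_mem hc
    obtain ⟨p, hp⟩ := small_valid _ hc
    rw [List.length_map] at hj
    have hj2 : j < 2 := gens_ok.2 ▸ hj
    have h := List.all_eq_true.mp mats_ok j (List.mem_range.mpr hj2)
    simp only [Bool.and_eq_true, beq_iff_eq] at h
    obtain ⟨⟨⟨hu, hb⟩, hpow⟩, hco⟩ := h
    set M := genMats.getD j U43N.oneM
    have hunit : (U43N.mat r M)ᵀ * (U43N.mat r M).map (· ^ 3) = 1 := by
      simp only [U43N.unit, beq_iff_eq] at hu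
      rw [← U43N.mat_tr, ← U43N.mat_conj hr, ← U43N.mat_mul hr, hu, U43N.mat_one]
    have hdet : (U43N.mat r M).det = 1 :=
      U43N.det_eq_one hF (n := genOrders.getD j 0) hco (by rw [← U43N.mat_pow hr, hpow, U43N.mat_one])
    refine ⟨⟨⟨U43N.mat r M, hdet⟩, U43N.preserves hunit⟩, p, hp, fun i => ?_⟩
    have hi := List.all_eq_true.mp (List.all_eq_true.mp imgs_ok j (List.mem_range.mpr hj2)) i (List.mem_range.mpr i.2)
    simp only [Bool.and_eq_true, Nat.blt_eq, beq_iff_eq] at hi
    obtain ⟨⟨hc0, hc9⟩, hi⟩ := hi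
    refine hmv _ i (p i) (dec r ((facs.getD j []).getD i 0)) (fun e => ?_) ?_
    · have := dec_inj hr hc9 (by norm_num : 0 < 9) (e.trans dec_zero.symm)
      omega
    · show U43N.mat r M *ᵥ U43N.vec r _ = _
      rw [← U43N.mulV_eq hr, hi, smul_vec hF hr, List.getD_eq_getElem (l := gens) _ hj]
      rw [List.getElem_map] at hp
      rw [hp i]
  obtain ⟨S, φ, hsurj, hφ⟩ : ∃ (S : Subgroup (SU 4 F 3)) (φ : S →* SmallU), Function.Surjective φ ∧
      ∀ z ∈ Subgroup.center (SU 4 F 3), ∃ h : z ∈ S, φ ⟨z, h⟩ = 1 := by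
    let S : Subgroup (SU 4 F 3) :=
      { carrier := {g | ∃ p : Perm (Fin 280), p ∈ genG 280 (gens.map Prod.fst) ∧ ∀ i, g • line i = line (p i)}
        one_mem' := ⟨1, one_mem _, fun i => by rw [one_smul]; rfl⟩
        mul_mem' := by
          rintro g h ⟨p, hp, hpg⟩ ⟨q, hq, hqh⟩
          exact ⟨p * q, mul_mem hp hq, fun i => by rw [mul_smul, hqh, hpg]; rfl⟩
        inv_mem' := by
          rintro g ⟨p, hp, hpg⟩
          exact ⟨p⁻¹, inv_mem hp, fun i => by
            rw [inv_smul_eq_iff, hpg]
            exact congrArg line (p.apply_symm_apply i).symm⟩ }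
    have huniq : ∀ g : SU 4 F 3, ∀ p q : Perm (Fin 280), (∀ i, g • line i = line (p i)) →
        (∀ i, g • line i = line (q i)) → p = q :=
      fun g p q hp hq => Equiv.ext fun i => hline ((hp i).symm.trans (hq i))
    choose P hP hPs using fun g : S => g.2
    let φ : S →* SmallU := MonoidHom.mk' (fun g => ⟨P g, hP g⟩) fun a b => Subtype.ext
      (huniq ((a * b : S) : SU 4 F 3) _ _ (hPs _) fun i => by
        rw [Subgroup.coe_mul, mul_smul, hPs b, hPs a]; rfl)
    refine ⟨S, φ, ?_, fun z hz => ?_⟩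
    · rw [← MonoidHom.range_eq_top]
      refine Subgroup.map_injective (genG 280 (gens.map Prod.fst)).subtype_injective ?_
      rw [← MonoidHom.range_eq_map (genG 280 (gens.map Prod.fst)).subtype, Subgroup.range_subtype]
      refine le_antisymm (Subgroup.map_subtype_le _) ?_
      conv_lhs => rw [genG]
      rw [Subgroup.closure_le]
      rintro p ⟨c, hc, hrp⟩
      obtain ⟨g, q, hq, hgq⟩ := hg c hc
      obtain rfl := hrp.unique hq
      have hgS : g ∈ S := ⟨p, Subgroup.subset_closure ⟨c, hc, hrp⟩, hgq⟩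
      exact ⟨φ ⟨g, hgS⟩, ⟨_, rfl⟩, huniq g _ _ (hPs ⟨g, hgS⟩) hgq⟩
    · obtain ⟨c, hc⟩ := SUCover.center_scalar hF2 (n := 4) (by norm_num) hz
      have hc0 : c ≠ 0 := fun h => by
        have hd := z.1.2
        rw [show z.1.1 = Matrix.scalar (Fin 4) c from hc, h, map_zero, Matrix.det_zero] at hd
        exact zero_ne_one hd
      have hfix : ∀ i, z • line i = line i := fun i => hmv _ i i c hc0 (by
        rw [show z.1.1 = Matrix.scalar (Fin 4) c from hc, Matrix.scalar_apply]
        funext t
        simp [Matrix.mulVec_diagonal])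
      have hzS : z ∈ S := ⟨1, one_mem _, hfix⟩
      exact ⟨hzS, Subtype.ext (huniq z _ _ (hPs ⟨z, hzS⟩) hfix)⟩
  haveI : Finite (SU 4 F 3) := inferInstance
  have hsmall : 3265920 ≤ Nat.card SmallU := by
    obtain ⟨hsub, hc⟩ := table_products (by norm_num) small_table small_valid
    rw [← chain_shape.2.2, ← hc, ← Nat.card_coe_set_eq]
    exact Nat.card_mono (Set.toFinite _) hsub
  have hker : 4 ≤ Nat.card φ.ker := by
    refine (center_card hF).symm.le.trans ?_
    exact Nat.card_le_card_of_injective (fun z => (⟨⟨z, (hφ z z.2).1⟩, (hφ z z.2).2⟩ : φ.ker))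
      fun a b e => Subtype.ext (congrArg (fun t : φ.ker => ((t : S) : SU 4 F 3)) e)
  have hSU : Nat.card (SU 4 F 3) = 3265920 * 4 := by
    rw [Subgroup.card_eq_card_quotient_mul_card_subgroup (Subgroup.center (SU 4 F 3)), center_card hF]
    exact congrArg (· * 4) (psu_card hF)
  have hmul := φ.ker.card_mul_index
  rw [index_ker, MonoidHom.range_eq_top.mpr hsurj, card_top] at hmul
  have hS : S = ⊤ := by
    refine eq_top_of_le_card _ ?_
    rw [hSU, ← hmul, mul_comm]
    exact Nat.mul_le_mul hker hsmall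
  have hSc : Nat.card S = 3265920 * 4 := by rw [hS, card_top, hSU]
  let e : SU 4 F 3 →* S := ((Subgroup.topEquiv.symm.trans (MulEquiv.subgroupCongr hS.symm))).toMonoidHom
  have hes : Function.Surjective e := (Subgroup.topEquiv.symm.trans (MulEquiv.subgroupCongr hS.symm)).surjective
  let ψ : SU 4 F 3 →* SmallU := φ.comp e
  have hψ : ψ.ker = Subgroup.center (SU 4 F 3) := by
    refine (eq_of_le_of_card_ge (fun z hz => ?_) ?_).symm
    · obtain ⟨h, h1⟩ := hφ z hz
      exact MonoidHom.mem_ker.mpr (show φ (e z) = 1 from (congrArg φ (show e z = ⟨z, h⟩ from rfl)).trans h1)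
    · have h' := ψ.ker.card_mul_index
      have hψs : Function.Surjective ψ := fun y => by
        obtain ⟨a, ha⟩ := hsurj y
        obtain ⟨b, hb⟩ := hes a
        exact ⟨b, (congrArg φ hb).trans ha⟩
      rw [index_ker, MonoidHom.range_eq_top.mpr hψs, card_top, hSU] at h'
      rw [center_card hF]
      by_contra hlt
      have : 5 * 3265920 ≤ Nat.card ψ.ker * Nat.card SmallU := Nat.mul_le_mul (by omega) hsmall
      omega
  have hψs : Function.Surjective ψ := fun y => by
    obtain ⟨a, ha⟩ := hsurj y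
    obtain ⟨b, hb⟩ := hes a
    exact ⟨b, (congrArg φ hb).trans ha⟩
  exact ⟨(QuotientGroup.quotientMulEquivOfEq hψ.symm).trans (QuotientGroup.quotientKerEquivOfSurjective ψ hψs)⟩

end Field

/-- The order of the group on 280 points. -/
theorem small_card {F : Type u} [Field F] [Fintype F] (hF : Fintype.card F = 9) :
    Nat.card SmallU = 3265920 ∧ prodSet 280 chain = genG 280 (gens.map Prod.fst) ∧ Nonempty (PSU 4 F 3 ≃* SmallU) := by
  haveI : Fact (Nat.Prime 3) := ⟨Nat.prime_three⟩
  haveI : CharP F 3 := charP_of_card_eq_prime_pow (f := 2) (by rw [hF]; norm_num)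
  obtain ⟨r, hr⟩ := (FiniteField.isSquare_neg_one_iff (F := F)).mpr (by rw [hF]; norm_num)
  obtain ⟨e⟩ := small_equiv hF hr.symm
  have hc : Nat.card SmallU = 3265920 := (Nat.card_congr e.toEquiv).symm.trans (psu_card hF)
  exact ⟨hc, (table_eq (by norm_num) small_table small_valid (by rw [hc, chain_shape.2.2])).1, ⟨e⟩⟩

theorem coverA_ok : coverA.OK 280 (gens.map Prod.fst) := by
  obtain ⟨h1, h2, h3, h4⟩ := permsA
  have hm : coverA.m = 126 := by with_unfolding_all rfl
  have hq : coverA.q = 3 := by with_unfolding_all rfl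
  refine ⟨by omega, by rw [List.length_map]; exact gens_ok.2, h1, h2,
    StemSylow.LabelCover.Data.of_sortOK _ injA, moveA, fun a ha => ?_, fun j hj a ha => ?_, h3, h4⟩
  · exact StemSylow.LabelCover.Data.of_rowOK _ rowA (Nat.zero_le _) (hm ▸ ha)
  · interval_cases j
    · exact StemSylow.LabelCover.Data.of_keepOK _ keepA0 (Nat.zero_le _) (hm ▸ ha)
    · exact StemSylow.LabelCover.Data.of_keepOK _ keepA1 (Nat.zero_le _) (hm ▸ ha)

theorem coverB_ok : coverB.OK 280 (gens.map Prod.fst) := by
  obtain ⟨h1, h2, h3, h4⟩ := permsB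
  have hm : coverB.m = 126 := by with_unfolding_all rfl
  have hq : coverB.q = 3 := by with_unfolding_all rfl
  refine ⟨by omega, by rw [List.length_map]; exact gens_ok.2, h1, h2,
    StemSylow.LabelCover.Data.of_sortOK _ injB, moveB, fun a ha => ?_, fun j hj a ha => ?_, h3, h4⟩
  · exact StemSylow.LabelCover.Data.of_rowOK _ rowB (Nat.zero_le _) (hm ▸ ha)
  · interval_cases j
    · exact StemSylow.LabelCover.Data.of_keepOK _ keepB0 (Nat.zero_le _) (hm ▸ ha)
    · exact StemSylow.LabelCover.Data.of_keepOK _ keepB1 (Nat.zero_le _) (hm ▸ ha)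

end CfsgLib.U43Mult
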